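import Mathlib
import Groth.Agent.S18161

/-! Finite étale algebras with a finite group simply transitive on geometric points. -/

set_option autoImplicit false
set_option linter.style.haveILetI false
universe u v

open scoped TensorProduct

namespace Groth.Agent.H8Props.PrincipalGalois

variable (A B : Type u) [CommRing A] [CommRing B] [Algebra A B] (G : Type v) [CommGroup G]

/-- `σ` is an action of `G` on `B` over `A`, simply transitive on all geometric points of `B/A`. -/
structure IsPrincipalAct (σ : G → B →ₐ[A] B) : Prop where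
  one : σ 1 = AlgHom.id A B
  mul : ∀ g h : G, σ (g * h) = (σ g).comp (σ h)
  surjective : Function.Surjective (PrimeSpectrum.comap (algebraMap A B))
  existsUnique : ∀ (Ω : Type u) [Field Ω] [IsAlgClosed Ω] [Algebra A Ω] (τ τ' : B →ₐ[A] Ω),
    ∃! g : G, τ.comp (σ g) = τ'

variable {A B G} {σ : G → B →ₐ[A] B} (h : IsPrincipalAct A B G σ)
include h

/-- A nontrivial element moves some element out of each prime. -/
theorem exists_notMem {g : G} (hg : g ≠ 1) (P : Ideal B) [P.IsPrime] : ∃ b, σ g b - b ∉ P := by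
  by_contra hc
  push Not at hc
  let Ω := AlgebraicClosure P.ResidueField
  let τ : B →ₐ[A] Ω := IsScalarTower.toAlgHom A B Ω
  have h1 : τ.comp (σ g) = τ := AlgHom.ext fun b => by
    have h0 : algebraMap B P.ResidueField (σ g b - b) = 0 := Ideal.algebraMap_residueField_eq_zero.2 (hc b)
    show algebraMap B Ω (σ g b) = algebraMap B Ω b
    rw [IsScalarTower.algebraMap_apply B P.ResidueField Ω, IsScalarTower.algebraMap_apply B P.ResidueField Ω b]
    rw [map_sub, sub_eq_zero] at h0
    rw [h0]
  exact hg ((h.existsUnique Ω τ τ).unique h1 (by rw [h.one, AlgHom.comp_id]))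

/-- Elements `x`, `y` with `∑ x i * σ g (y i) = δ`. -/
theorem exists_delta [Finite G] : ∃ (n : ℕ) (x y : Fin n → B),
    ∑ i, x i * y i = 1 ∧ ∀ g : G, g ≠ 1 → ∑ i, x i * σ g (y i) = 0 := by
  classical
  haveI := Fintype.ofFinite G
  let Φ : G → B ⊗[A] B →ₐ[A] B := fun g =>
    Algebra.TensorProduct.lift (AlgHom.id A B) (σ g) fun _ _ => Commute.all _ _
  have hΦ : ∀ g x y, Φ g (x ⊗ₜ y) = x * σ g y := fun g x y => Algebra.TensorProduct.lift_tmul ..
  have h1 : ∀ g : {g : G // g ≠ 1}, ∃ u, Φ 1 u = 1 ∧ Φ g.1 u = 0 := by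
    intro g
    have hI : Ideal.span (Set.range fun b => σ g.1 b - b) = ⊤ := by
      by_contra hne
      obtain ⟨P, hP, hle⟩ := Ideal.exists_le_maximal _ hne
      obtain ⟨b, hb⟩ := exists_notMem h g.2 P
      exact hb (hle (Ideal.subset_span ⟨b, rfl⟩))
    have h1 : (1 : B) ∈ Ideal.span (Set.range fun b => σ g.1 b - b) := by rw [hI]; trivial
    obtain ⟨c, hc⟩ := Finsupp.mem_span_range_iff_exists_finsupp.1 h1
    refine ⟨c.sum fun a e => (e ⊗ₜ 1) * ((σ g.1 a) ⊗ₜ[A] 1 - 1 ⊗ₜ a), ?_, ?_⟩
    · rw [map_finsuppSum]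
      refine Eq.trans ?_ hc
      refine Finsupp.sum_congr fun a _ => ?_
      rw [map_mul, map_sub, hΦ, hΦ, hΦ, map_one, h.one, AlgHom.id_apply]; simp
    · rw [map_finsuppSum]
      refine Finset.sum_eq_zero fun a _ => ?_
      show Φ g.1 ((c a ⊗ₜ[A] 1) * _) = 0
      rw [map_mul, map_sub, hΦ, hΦ, hΦ, map_one]; simp
  choose u hu using h1
  have hU1 : Φ 1 (∏ g, u g) = 1 := by rw [map_prod]; exact Finset.prod_eq_one fun g _ => (hu g).1
  have hU0 : ∀ g : G, g ≠ 1 → Φ g (∏ g, u g) = 0 := fun g hg => by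
    rw [map_prod]; exact Finset.prod_eq_zero (Finset.mem_univ ⟨g, hg⟩) (hu ⟨g, hg⟩).2
  obtain ⟨S, hS⟩ := TensorProduct.exists_finset (∏ g, u g)
  let e := S.equivFin.symm
  have hsum : ∀ g, Φ g (∏ g, u g) = ∑ i, (e i).1.1 * σ g (e i).1.2 := fun g => by
    rw [hS, map_sum, ← Finset.sum_coe_sort, ← e.sum_comp]
    exact Finset.sum_congr rfl fun i _ => hΦ ..
  refine ⟨_, fun i => (e i).1.1, fun i => (e i).1.2, ?_, fun g hg => (hsum g).symm.trans (hU0 g hg)⟩
  have := (hsum 1).symm.trans hU1
  rwa [h.one] at this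

/-- The number of geometric points, hence the rank, is the order of the group. -/
theorem rankAtStalk_eq [Algebra.Etale A B] [Module.Finite A B] (p : PrimeSpectrum A) :
    Module.rankAtStalk B p = Nat.card G := by
  rw [Module.rankAtStalk_eq]
  let κ := p.asIdeal.ResidueField
  obtain ⟨q, hq⟩ := h.surjective p
  let Ω := AlgebraicClosure q.asIdeal.ResidueField
  let m : κ →+* q.asIdeal.ResidueField := Ideal.ResidueField.map p.asIdeal q.asIdeal (algebraMap A B)
    (congrArg PrimeSpectrum.asIdeal hq).symm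
  letI : Algebra κ Ω := ((algebraMap q.asIdeal.ResidueField Ω).comp m).toAlgebra
  haveI : IsScalarTower A κ Ω := IsScalarTower.of_algebraMap_eq fun a => by
    show algebraMap A Ω a = algebraMap q.asIdeal.ResidueField Ω (m (algebraMap A κ a))
    rw [show m (algebraMap A κ a) = algebraMap A q.asIdeal.ResidueField a from
      (Ideal.ResidueField.map_algebraMap _ _ _ _ a).trans (IsScalarTower.algebraMap_apply A B _ a).symm,
      ← IsScalarTower.algebraMap_apply]
  rw [← (S18161.etale_card κ (κ ⊗[A] B) Ω).2, ← Nat.card_congr (AlgHom.liftEquiv A κ B Ω)]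
  let τ : B →ₐ[A] Ω := IsScalarTower.toAlgHom A B Ω
  exact (Nat.card_eq_of_bijective (fun g => τ.comp (σ g))
    ⟨fun g g' hgg' => (h.existsUnique Ω τ (τ.comp (σ g'))).unique hgg' rfl,
      fun τ' => (h.existsUnique Ω τ τ').exists⟩).symm

/-- Invariant elements come from the base. -/
theorem mem_range_of_invariant [Finite G] [Algebra.Etale A B] [Module.Finite A B] (b : B)
    (hb : ∀ g, σ g b = b) : b ∈ Set.range (algebraMap A B) := by
  classical
  haveI := Fintype.ofFinite G
  haveI : Module.FaithfullyFlat A B := Module.FaithfullyFlat.of_comap_surjective h.surjective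
  obtain ⟨n, x, y, hxy, hxy0⟩ := exists_delta h
  let Φ : B ⊗[A] B →ₐ[B] (G → B) :=
    AlgHom.pi fun g => Algebra.TensorProduct.lift (AlgHom.id B B) (σ g) fun _ _ => Commute.all _ _
  have hΦ : ∀ x y g, Φ (x ⊗ₜ y) g = x * σ g y := fun x y g => Algebra.TensorProduct.lift_tmul (AlgHom.id B B) (σ g) (fun _ _ => Commute.all _ _) x y
  have hsurj : Function.Surjective Φ := fun f => by
    refine ⟨∑ k : G, ∑ i, (f k * x i) ⊗ₜ σ k⁻¹ (y i), funext fun g => ?_⟩
    simp only [map_sum, Finset.sum_apply, hΦ, ← AlgHom.comp_apply (σ g), ← h.mul, mul_assoc, ← Finset.mul_sum]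
    rw [Finset.sum_eq_single g]
    · rw [mul_inv_cancel, h.one]; simp [hxy]
    · intro k _ hk
      rw [hxy0 _ (fun e => hk (mul_inv_eq_one.1 e).symm), mul_zero]
    · simp
  have hbij : Function.Bijective Φ := Module.bijective_of_surjective_of_rankAtStalk_eq (φ := Φ.toLinearMap) hsurj
    fun m _ => by
      haveI := PrimeSpectrum.nontrivial ⟨m, inferInstance⟩
      rw [Module.rankAtStalk_baseChange, rankAtStalk_eq h, Module.rankAtStalk_eq_finrank_of_free,
        Pi.natCast_apply, Module.finrank_pi, Nat.card_eq_fintype_card, Nat.cast_id]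
  have heq : (b ⊗ₜ[A] (1 : B)) = 1 ⊗ₜ b := hbij.1 (funext fun g => by rw [hΦ, hΦ, map_one, mul_one, one_mul, hb])
  have hI : Algebra.IsEffective A B := Algebra.IsEffective.of_faithfullyFlat A B
  exact (hI b).1 (by rw [Algebra.TensorProduct.includeLeftSubRight_apply, heq, sub_self])

/-- The trace of the group is surjective. -/
theorem exists_sum_eq_one [Fintype G] [Algebra.Etale A B] [Module.Finite A B] : ∃ b, ∑ g, σ g b = 1 := by
  classical
  haveI : Module.FaithfullyFlat A B := Module.FaithfullyFlat.of_comap_surjective h.surjective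
  choose tr htr using fun b : B => mem_range_of_invariant h (∑ g, σ g b) fun k => by
    rw [map_sum]
    exact Fintype.sum_equiv (Equiv.mulLeft k) _ _ fun g => by rw [Equiv.coe_mulLeft, h.mul]; rfl
  obtain ⟨n, x, y, hxy, hxy0⟩ := exists_delta h
  let I := Ideal.span (Set.range tr)
  have hI : (1 : A) ∈ I := by
    have h1 : (1 : B) ∈ I.map (algebraMap A B) := by
      have : (1 : B) = ∑ i, x i * algebraMap A B (tr (y i)) := by
        simp only [htr, Finset.mul_sum]
        rw [Finset.sum_comm, Finset.sum_eq_single (1 : G) (fun g _ hg => hxy0 g hg) (by simp), h.one]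
        exact hxy.symm
      rw [this]
      exact Ideal.sum_mem _ fun i _ => Ideal.mul_mem_left _ _
        (Ideal.mem_map_of_mem _ (Ideal.subset_span ⟨y i, rfl⟩))
    rw [← Ideal.comap_map_eq_self_of_faithfullyFlat (B := B) I, Ideal.mem_comap, map_one]
    exact h1
  obtain ⟨c, hc⟩ := Finsupp.mem_span_range_iff_exists_finsupp.1 hI
  refine ⟨c.sum fun b e => e • b, ?_⟩
  rw [← map_one (algebraMap A B), ← hc, map_finsuppSum]
  simp only [Finsupp.sum, map_sum, smul_eq_mul, map_mul, htr, Finset.mul_sum]
  rw [Finset.sum_comm]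
  exact Finset.sum_congr rfl fun b _ => Finset.sum_congr rfl fun g _ => by rw [Algebra.smul_def, map_mul, AlgHom.commutes]

/-- An equivariant-interpolation argument: an algebra map into `B` whose image contains enough
elements is bijective as soon as the source is free of the same rank. -/
theorem bijective_of_surjective [Algebra.Etale A B] [Module.Finite A B] {C : Type u} [CommRing C] [Algebra A C]
    [Module.Free A C] [Module.Finite A C] (hC : Module.finrank A C = Nat.card G) (f : C →ₐ[A] B)
    (hf : Function.Surjective f) : Function.Bijective f :=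
  Module.bijective_of_surjective_of_rankAtStalk_eq (φ := f.toLinearMap) hf fun m _ => by
    haveI := PrimeSpectrum.nontrivial ⟨m, inferInstance⟩
    rw [rankAtStalk_eq h, Module.rankAtStalk_eq_finrank_of_free, Pi.natCast_apply, hC, Nat.cast_id]

end Groth.Agent.H8Props.PrincipalGalois
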