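import Mathlib
import Groth.Prelude.Def_SGA1t
import Groth.Agent.H8Props.PrincipalGalois.Basic

/-! Principal covers of affine schemes as Galois algebras. -/

set_option autoImplicit false
set_option linter.style.haveILetI false
universe u v

open CategoryTheory AlgebraicGeometry

namespace Groth.Agent.H8Props.PrincipalGalois

theorem exists_alg (A : Type u) [CommRing A] {G : Type v} [CommGroup G]
    (P : FEt.Cat (Spec (CommRingCat.of A))) (ρ : G →* Aut P) (hP : SGA1t.IsPrincipal G P ρ) :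
    ∃ (B : Type u) (_ : CommRing B) (_ : Algebra A B) (σ : G → B →ₐ[A] B)
      (e : P.left ≅ Spec (CommRingCat.of B)),
      Algebra.Etale A B ∧ Module.Finite A B ∧ IsPrincipalAct A B G σ ∧
      e.hom ≫ Spec.map (CommRingCat.ofHom (algebraMap A B)) = P.hom ∧
      ∀ g : G, (ρ g).hom.left ≫ e.hom = e.hom ≫ Spec.map (CommRingCat.ofHom (σ g).toRingHom) := by
  haveI : IsFinite P.hom := P.prop.1
  haveI : Etale P.hom := P.prop.2
  haveI : IsAffine P.left := isAffine_of_isAffineHom (Y := Spec (CommRingCat.of A)) P.hom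
  let e : P.left ≅ Spec (CommRingCat.of Γ(P.left, ⊤)) := P.left.isoSpec
  let φ : CommRingCat.of A ⟶ CommRingCat.of Γ(P.left, ⊤) := Spec.preimage (e.inv ≫ P.hom)
  letI : Algebra A Γ(P.left, ⊤) := φ.hom.toAlgebra
  have hφ : Spec.map φ = e.inv ≫ P.hom := Spec.map_preimage _
  let ψ : G → (CommRingCat.of Γ(P.left, ⊤) ⟶ CommRingCat.of Γ(P.left, ⊤)) := fun g =>
    Spec.preimage (e.inv ≫ (ρ g).hom.left ≫ e.hom)
  have hψ : ∀ g, Spec.map (ψ g) = e.inv ≫ (ρ g).hom.left ≫ e.hom := fun g => Spec.map_preimage _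
  have hψA : ∀ g, φ ≫ ψ g = φ := fun g => Spec.map_injective (by
    rw [Spec.map_comp, hψ, hφ, Category.assoc, Category.assoc, e.hom_inv_id_assoc]
    exact congrArg (e.inv ≫ ·) (Over.w (ρ g).hom.hom))
  let σ : G → Γ(P.left, ⊤) →ₐ[A] Γ(P.left, ⊤) := fun g =>
    AlgHom.mk (ψ g).hom fun a => ConcreteCategory.congr_hom (hψA g) a
  have hσ : ∀ g, Spec.map (CommRingCat.ofHom (σ g).toRingHom) = e.inv ≫ (ρ g).hom.left ≫ e.hom :=
    fun g => hψ g
  refine ⟨Γ(P.left, ⊤), inferInstance, inferInstance, σ, e, ?_, ?_, ?_, ?_, fun g => ?_⟩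
  · have h : Etale (Spec.map φ) := by rw [hφ]; infer_instance
    exact RingHom.etale_algebraMap.mp ((HasRingHomProperty.Spec_iff (P := @Etale)).mp h)
  · have h : IsFinite (Spec.map φ) := by rw [hφ]; infer_instance
    exact RingHom.finite_algebraMap.mp ((IsFinite.SpecMap_iff φ).mp h)
  · constructor
    · refine AlgHom.ext fun b => ?_
      have : ψ 1 = 𝟙 _ := Spec.map_injective (by
        rw [hψ, map_one, Spec.map_id]
        exact (congrArg (e.inv ≫ ·) (Category.id_comp e.hom)).trans e.inv_hom_id)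
      exact ConcreteCategory.congr_hom this b
    · intro g k
      refine AlgHom.ext fun b => ?_
      have : ψ (g * k) = ψ k ≫ ψ g := Spec.map_injective (by
        rw [Spec.map_comp, hψ, hψ, hψ, mul_comm g k, map_mul]
        show e.inv ≫ ((ρ g).hom.left ≫ (ρ k).hom.left) ≫ e.hom = _
        simp only [Category.assoc, Iso.hom_inv_id_assoc])
      exact ConcreteCategory.congr_hom this b
    · intro p
      obtain ⟨x, hx⟩ := hP.1 p
      refine ⟨e.hom x, ?_⟩
      rw [← hx]
      show Spec.map φ (e.hom x) = P.hom x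
      rw [← Scheme.Hom.comp_apply, hφ, e.hom_inv_id_assoc]
    · intro Ω _ _ _ τ τ'
      let ξ : Spec (CommRingCat.of Ω) ⟶ Spec (CommRingCat.of A) := Spec.map (CommRingCat.ofHom (algebraMap A Ω))
      have hpt : ∀ t : Γ(P.left, ⊤) →ₐ[A] Ω, (Spec.map (CommRingCat.ofHom t.toRingHom) ≫ e.inv) ≫ P.hom = ξ := fun t => by
        rw [Category.assoc, ← hφ, ← Spec.map_comp]
        exact congrArg Spec.map (CommRingCat.hom_ext (RingHom.ext fun a => t.commutes a))
      let pt : (Γ(P.left, ⊤) →ₐ[A] Ω) → FEt.fiberObj ξ P := fun t => ⟨_, hpt t⟩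
      obtain ⟨g, hg, hu⟩ := hP.2 Ω ξ (pt τ) (pt τ')
      have key : ∀ g : G, (FEt.fiber ξ).map (ρ g).hom (pt τ) = pt (τ.comp (σ g)) := fun g => Subtype.ext (by
        show (Spec.map (CommRingCat.ofHom τ.toRingHom) ≫ e.inv) ≫ (ρ g).hom.left =
          Spec.map (CommRingCat.ofHom (σ g).toRingHom ≫ CommRingCat.ofHom τ.toRingHom) ≫ e.inv
        rw [Spec.map_comp, hσ]
        simp only [Category.assoc, Iso.hom_inv_id, Category.comp_id])
      have hinj : ∀ t t', pt t = pt t' → t = t' := fun t t' htt => by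
        have h1 := Spec.map_injective ((cancel_mono e.inv).1 (congrArg Subtype.val htt))
        exact AlgHom.ext fun b => ConcreteCategory.congr_hom h1 b
      exact ⟨g, hinj _ _ ((key g).symm.trans hg),
        fun g' hg' => hu g' ((key g').trans (congrArg pt hg'))⟩
  · show e.hom ≫ Spec.map φ = P.hom
    rw [hφ, e.hom_inv_id_assoc]
  · rw [hσ, e.hom_inv_id_assoc]

end Groth.Agent.H8Props.PrincipalGalois
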